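import Mathlib
import Groth.Agent.CAlgBasics.FlatMod

/-! Flatness of `M/IM` over `R/I`, via modules killed by `I` (modules in any universe). -/

namespace Groth.Agent.FlatDevLibU

open TensorProduct

universe u v

variable {R : Type u} [CommRing R] {M : Type v} [AddCommGroup M] [Module R M]

theorem rTensor_injective_of_killed (I : Ideal R) [Module.Flat (R ⧸ I) ((R ⧸ I) ⊗[R] M)]
    {A B : Type u} [AddCommGroup A] [Module R A] [AddCommGroup B] [Module R B]
    (hA : Module.IsTorsionBySet R A I) (hB : Module.IsTorsionBySet R B I) (f : A →ₗ[R] B) (hf : Function.Injective f) :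
    Function.Injective (f.rTensor M) := by
  letI : Module (R ⧸ I) A := hA.module
  letI : Module (R ⧸ I) B := hB.module
  haveI : IsScalarTower R (R ⧸ I) A := hA.isScalarTower
  haveI : IsScalarTower R (R ⧸ I) B := hB.isScalarTower
  let f' : A →ₗ[R ⧸ I] B := { f with
    map_smul' := fun c x => by
      obtain ⟨r, rfl⟩ := Ideal.Quotient.mk_surjective c
      exact f.map_smul r x }
  exact CAlgBasics.rTensor_injective_of_flat_baseChange (R ⧸ I) M f' hf

theorem isTorsionBySet_quot (I : Ideal R) : Module.IsTorsionBySet R (R ⧸ I) I := fun x a => by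
  obtain ⟨r, rfl⟩ := Ideal.Quotient.mk_surjective x
  rw [← Ideal.Quotient.mkₐ_eq_mk R, ← map_smul, Ideal.Quotient.mkₐ_eq_mk, Ideal.Quotient.eq_zero_iff_mem, smul_eq_mul]
  exact I.mul_mem_right _ a.2

theorem isTorsionBySet_sub {X : Type u} [AddCommGroup X] [Module R X] {I : Set R} (h : Module.IsTorsionBySet R X I)
    (A : Submodule R X) : Module.IsTorsionBySet R A I := fun x a => Subtype.ext (@h x.1 a)

/-- Flatness of `M/IM` can be checked on the submodules of `R/I`. -/
theorem flat_of_rTensor_injective (I : Ideal R)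
    (h : ∀ A : Submodule R (R ⧸ I), Function.Injective (A.subtype.rTensor M)) :
    Module.Flat (R ⧸ I) ((R ⧸ I) ⊗[R] M) :=
  CAlgBasics.flat_baseChange_of_rTensor_injective (R ⧸ I) M fun J => h (J.restrictScalars R)

theorem flat_mod_mono {I J : Ideal R} (hIJ : I ≤ J) [Module.Flat (R ⧸ I) ((R ⧸ I) ⊗[R] M)] :
    Module.Flat (R ⧸ J) ((R ⧸ J) ⊗[R] M) :=
  flat_of_rTensor_injective J fun A =>
    have h : Module.IsTorsionBySet R (R ⧸ J) I := fun x a => @isTorsionBySet_quot R _ J x ⟨a.1, hIJ a.2⟩
    rTensor_injective_of_killed I (isTorsionBySet_sub h A) h A.subtype A.injective_subtype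

theorem flat_mod_pow (I : Ideal R) [Module.Flat (R ⧸ I) ((R ⧸ I) ⊗[R] M)]
    (htor : Function.Injective ((Submodule.subtype I).rTensor M)) (n : ℕ) :
    Module.Flat (R ⧸ I ^ (n + 1)) ((R ⧸ I ^ (n + 1)) ⊗[R] M) := by
  induction n with
  | zero => rw [zero_add, pow_one]; infer_instance
  | succ n ih =>
    haveI := ih
    refine flat_of_rTensor_injective _ fun A => ?_
    let N : Ideal R := I ^ (n + 1 + 1)
    have hN : N ≤ I := Ideal.pow_le_self (by omega)
    let p₁ : (R ⧸ N) →ₗ[R] (R ⧸ I) := (Ideal.Quotient.factorₐ R hN).toLinearMap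
    let K : Submodule R (R ⧸ N) := LinearMap.ker p₁
    have hK : Module.IsTorsionBySet R K (I ^ (n + 1) : Ideal R) := fun x a => Subtype.ext (by
      obtain ⟨r, hr⟩ := Ideal.Quotient.mk_surjective x.1
      show (a : R) • x.1 = 0
      have hrI : r ∈ I := Ideal.Quotient.eq_zero_iff_mem.mp (show Ideal.Quotient.mk I r = 0 by
        have := x.2; rw [← hr] at this; exact this)
      rw [← hr, ← Ideal.Quotient.mkₐ_eq_mk R, ← map_smul, Ideal.Quotient.mkₐ_eq_mk, Ideal.Quotient.eq_zero_iff_mem, smul_eq_mul]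
      show _ ∈ I ^ (n + 1 + 1)
      rw [pow_succ]
      exact Ideal.mul_mem_mul a.2 hrI)
    have hKX : Function.Injective (K.subtype.rTensor M) := by
      let q : I →ₗ[R] K := ((Ideal.Quotient.mkₐ R N).toLinearMap.domRestrict I).codRestrict K fun r =>
        (Ideal.Quotient.eq_zero_iff_mem.mpr r.2 : Ideal.Quotient.mk I r.1 = 0)
      have hq : Function.Surjective q := fun x => by
        obtain ⟨r, hr⟩ := Ideal.Quotient.mk_surjective x.1
        have hrI : r ∈ I := Ideal.Quotient.eq_zero_iff_mem.mp (show Ideal.Quotient.mk I r = 0 by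
          have := x.2; rw [← hr] at this; exact this)
        exact ⟨⟨r, hrI⟩, Subtype.ext hr⟩
      refine (injective_iff_map_eq_zero _).mpr fun z hz => ?_
      obtain ⟨w, rfl⟩ := LinearMap.rTensor_surjective M hq z
      have h1 : ((Ideal.Quotient.mkₐ R N).toLinearMap).rTensor M ((Submodule.subtype I).rTensor M w) = 0 := by
        rw [← hz, ← LinearMap.comp_apply, ← LinearMap.rTensor_comp, ← LinearMap.comp_apply, ← LinearMap.rTensor_comp]
        rfl
      obtain ⟨y, hy⟩ := (_root_.rTensor_exact M (f := N.subtype) (g := (Ideal.Quotient.mkₐ R N).toLinearMap)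
        (fun r => ⟨fun h => ⟨⟨r, Ideal.Quotient.eq_zero_iff_mem.mp h⟩, rfl⟩,
          fun ⟨s, hs⟩ => hs ▸ Ideal.Quotient.eq_zero_iff_mem.mpr s.2⟩) Ideal.Quotient.mk_surjective _).mp h1
      have hw : w = (Submodule.inclusion hN).rTensor M y := htor (by
        rw [← hy, ← LinearMap.comp_apply ((Submodule.subtype I).rTensor M), ← LinearMap.rTensor_comp]
        rfl)
      rw [hw, ← LinearMap.comp_apply, ← LinearMap.rTensor_comp]
      have h0 : q ∘ₗ Submodule.inclusion hN = 0 := LinearMap.ext fun s => Subtype.ext (Ideal.Quotient.eq_zero_iff_mem.mpr s.2)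
      rw [h0, LinearMap.rTensor_zero, LinearMap.zero_apply]
    refine CAlgBasics.rTensor_injective_aux A p₁ LinearMap.id
      (rTensor_injective_of_killed I (isTorsionBySet_sub (isTorsionBySet_quot I) _) (isTorsionBySet_quot I) _
        (A.map p₁).injective_subtype) ?_ (fun x _ h => h)
    have hle : (A ⊓ LinearMap.ker p₁).map LinearMap.id ≤ K := by
      rw [Submodule.map_id]; exact inf_le_right
    have hinj := rTensor_injective_of_killed (M := M) (I ^ (n + 1)) (fun x a => Subtype.ext (congrArg Subtype.val (@hK ⟨x.1, hle x.2⟩ a) :)) hK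
      (Submodule.inclusion hle) (Submodule.inclusion_injective hle)
    rw [← Submodule.subtype_comp_inclusion _ _ hle, LinearMap.rTensor_comp]
    exact hKX.comp hinj

theorem flat_of_nilpotent (I : Ideal R) (hI : IsNilpotent I) [Module.Flat (R ⧸ I) ((R ⧸ I) ⊗[R] M)]
    (h : Function.Injective ((Submodule.subtype I).rTensor M)) : Module.Flat R M := by
  obtain ⟨N, hN⟩ := hI
  haveI := flat_mod_pow (M := M) I h N
  have h0 : I ^ (N + 1) = ⊥ := le_bot_iff.1 ((Ideal.pow_le_pow_right N.le_succ).trans hN.le)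
  refine Module.Flat.iff_rTensor_injective'.mpr fun J => ?_
  have ht : Module.IsTorsionBySet R R ((I ^ (N + 1) : Ideal R) : Set R) := fun x a => by
    rw [show (a : R) = 0 from h0.le a.2, zero_smul]
  exact rTensor_injective_of_killed (I ^ (N + 1)) (isTorsionBySet_sub ht J) ht J.subtype J.subtype_injective

end Groth.Agent.FlatDevLibU
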