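import Mathlib
import Groth.Agent.CAlgBasics.FlatMod

/-! Flatness of `M/IM` over `R/I`, via modules killed by `I`. -/

namespace Groth.Agent.FlatDevLib

open TensorProduct

universe u

variable {R : Type u} [CommRing R] {M : Type u} [AddCommGroup M] [Module R M]

theorem rTensor_injective_of_killed (I : Ideal R) [Module.Flat (R ⧸ I) ((R ⧸ I) ⊗[R] M)]
    {A B : Type u} [AddCommGroup A] [Module R A] [AddCommGroup B] [Module R B]
    (hA : Module.IsTorsionBySet R A I) (hB : Module.IsTorsionBySet R B I) (f : A →ₗ[R] B) (hf : Function.Injective f) :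
    Function.Injective (f.rTensor M) := by
  letI : Module (R ⧸ I) A := hA.module
  letI : Module (R ⧸ I) B := hB.module
  haveI : IsScalarTower R (R ⧸ I) A := hA.isScalarTower
  haveI : IsScalarTower R (R ⧸ I) B := hB.isScalarTower
  let f' : A →ₗ[R ⧸ I] B := { f with
    map_smul' := fun c x => by
      obtain ⟨r, rfl⟩ := Ideal.Quotient.mk_surjective c
      exact f.map_smul r x }
  exact CAlgBasics.rTensor_injective_of_flat_baseChange (R ⧸ I) M f' hf

theorem isTorsionBySet_quot (I : Ideal R) : Module.IsTorsionBySet R (R ⧸ I) I := fun x a => by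
  obtain ⟨r, rfl⟩ := Ideal.Quotient.mk_surjective x
  rw [← Ideal.Quotient.mkₐ_eq_mk R, ← map_smul, Ideal.Quotient.mkₐ_eq_mk, Ideal.Quotient.eq_zero_iff_mem, smul_eq_mul]
  exact I.mul_mem_right _ a.2

theorem isTorsionBySet_sub {X : Type u} [AddCommGroup X] [Module R X] {I : Set R} (h : Module.IsTorsionBySet R X I)
    (A : Submodule R X) : Module.IsTorsionBySet R A I := fun x a => Subtype.ext (@h x.1 a)

/-- Flatness of `M/IM` can be checked on the submodules of `R/I`. -/
theorem flat_of_rTensor_injective (I : Ideal R)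
    (h : ∀ A : Submodule R (R ⧸ I), Function.Injective (A.subtype.rTensor M)) :
    Module.Flat (R ⧸ I) ((R ⧸ I) ⊗[R] M) :=
  CAlgBasics.flat_baseChange_of_rTensor_injective (R ⧸ I) M fun J => h (J.restrictScalars R)

theorem flat_mod_mono {I J : Ideal R} (hIJ : I ≤ J) [Module.Flat (R ⧸ I) ((R ⧸ I) ⊗[R] M)] :
    Module.Flat (R ⧸ J) ((R ⧸ J) ⊗[R] M) :=
  flat_of_rTensor_injective J fun A =>
    have h : Module.IsTorsionBySet R (R ⧸ J) I := fun x a => @isTorsionBySet_quot R _ J x ⟨a.1, hIJ a.2⟩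
    rTensor_injective_of_killed I (isTorsionBySet_sub h A) h A.subtype A.injective_subtype

theorem flat_mod_pow (I : Ideal R) [Module.Flat (R ⧸ I) ((R ⧸ I) ⊗[R] M)]
    (htor : Function.Injective ((Submodule.subtype I).rTensor M)) (n : ℕ) :
    Module.Flat (R ⧸ I ^ (n + 1)) ((R ⧸ I ^ (n + 1)) ⊗[R] M) := by
  induction n with
  | zero => rw [zero_add, pow_one]; infer_instance
  | succ n ih =>
    haveI := ih
    refine flat_of_rTensor_injective _ fun A => ?_
    let N : Ideal R := I ^ (n + 1 + 1)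
    have hN : N ≤ I := Ideal.pow_le_self (by omega)
    let p₁ : (R ⧸ N) →ₗ[R] (R ⧸ I) := (Ideal.Quotient.factorₐ R hN).toLinearMap
    let K : Submodule R (R ⧸ N) := LinearMap.ker p₁
    have hK : Module.IsTorsionBySet R K (I ^ (n + 1) : Ideal R) := fun x a => Subtype.ext (by
      obtain ⟨r, hr⟩ := Ideal.Quotient.mk_surjective x.1
      show (a : R) • x.1 = 0
      have hrI : r ∈ I := Ideal.Quotient.eq_zero_iff_mem.mp (show Ideal.Quotient.mk I r = 0 by
        have := x.2; rw [← hr] at this; exact this)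
      rw [← hr, ← Ideal.Quotient.mkₐ_eq_mk R, ← map_smul, Ideal.Quotient.mkₐ_eq_mk, Ideal.Quotient.eq_zero_iff_mem, smul_eq_mul]
      show _ ∈ I ^ (n + 1 + 1)
      rw [pow_succ]
      exact Ideal.mul_mem_mul a.2 hrI)
    have hKX : Function.Injective (K.subtype.rTensor M) := by
      let q : I →ₗ[R] K := ((Ideal.Quotient.mkₐ R N).toLinearMap.domRestrict I).codRestrict K fun r =>
        (Ideal.Quotient.eq_zero_iff_mem.mpr r.2 : Ideal.Quotient.mk I r.1 = 0)
      have hq : Function.Surjective q := fun x => by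
        obtain ⟨r, hr⟩ := Ideal.Quotient.mk_surjective x.1
        have hrI : r ∈ I := Ideal.Quotient.eq_zero_iff_mem.mp (show Ideal.Quotient.mk I r = 0 by
          have := x.2; rw [← hr] at this; exact this)
        exact ⟨⟨r, hrI⟩, Subtype.ext hr⟩
      refine (injective_iff_map_eq_zero _).mpr fun z hz => ?_
      obtain ⟨w, rfl⟩ := LinearMap.rTensor_surjective M hq z
      have h1 : ((Ideal.Quotient.mkₐ R N).toLinearMap).rTensor M ((Submodule.subtype I).rTensor M w) = 0 := by
        rw [← hz, ← LinearMap.comp_apply, ← LinearMap.rTensor_comp, ← LinearMap.comp_apply, ← LinearMap.rTensor_comp]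
        rfl
      obtain ⟨y, hy⟩ := (_root_.rTensor_exact M (f := N.subtype) (g := (Ideal.Quotient.mkₐ R N).toLinearMap)
        (fun r => ⟨fun h => ⟨⟨r, Ideal.Quotient.eq_zero_iff_mem.mp h⟩, rfl⟩,
          fun ⟨s, hs⟩ => hs ▸ Ideal.Quotient.eq_zero_iff_mem.mpr s.2⟩) Ideal.Quotient.mk_surjective _).mp h1
      have hw : w = (Submodule.inclusion hN).rTensor M y := htor (by
        rw [← hy, ← LinearMap.comp_apply ((Submodule.subtype I).rTensor M), ← LinearMap.rTensor_comp]
        rfl)
      rw [hw, ← LinearMap.comp_apply, ← LinearMap.rTensor_comp]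
      have h0 : q ∘ₗ Submodule.inclusion hN = 0 := LinearMap.ext fun s => Subtype.ext (Ideal.Quotient.eq_zero_iff_mem.mpr s.2)
      rw [h0, LinearMap.rTensor_zero, LinearMap.zero_apply]
    refine CAlgBasics.rTensor_injective_aux A p₁ LinearMap.id
      (rTensor_injective_of_killed I (isTorsionBySet_sub (isTorsionBySet_quot I) _) (isTorsionBySet_quot I) _
        (A.map p₁).injective_subtype) ?_ (fun x _ h => h)
    have hle : (A ⊓ LinearMap.ker p₁).map LinearMap.id ≤ K := by
      rw [Submodule.map_id]; exact inf_le_right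
    have hinj := rTensor_injective_of_killed (M := M) (I ^ (n + 1)) (fun x a => Subtype.ext (congrArg Subtype.val (@hK ⟨x.1, hle x.2⟩ a) :)) hK
      (Submodule.inclusion hle) (Submodule.inclusion_injective hle)
    rw [← Submodule.subtype_comp_inclusion _ _ hle, LinearMap.rTensor_comp]
    exact hKX.comp hinj

theorem flat_mod_comap_sq (R' : Type u) [CommRing R'] [Algebra R R'] (I : Ideal R)
    [Module.Flat (R ⧸ I) ((R ⧸ I) ⊗[R] M)] [Module.Flat R' (R' ⊗[R] M)] :
    Module.Flat (R ⧸ ((I ^ 2).map (algebraMap R R')).comap (algebraMap R R'))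
      ((R ⧸ ((I ^ 2).map (algebraMap R R')).comap (algebraMap R R')) ⊗[R] M) := by
  let J : Ideal R' := (I ^ 2).map (algebraMap R R')
  let a : Ideal R := J.comap (algebraMap R R')
  show Module.Flat (R ⧸ a) ((R ⧸ a) ⊗[R] M)
  haveI : Module.Flat (R ⧸ (I ⊔ a)) ((R ⧸ (I ⊔ a)) ⊗[R] M) := flat_mod_mono le_sup_left
  refine flat_of_rTensor_injective _ fun A => ?_
  let p₁ : (R ⧸ a) →ₗ[R] (R ⧸ (I ⊔ a)) := (Ideal.Quotient.factorₐ R le_sup_right).toLinearMap
  let p₂ : (R ⧸ a) →ₗ[R] (R' ⧸ J) :=
    (Ideal.Quotient.liftₐ a ((Ideal.Quotient.mkₐ R J).comp (Algebra.ofId R R'))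
      fun r hr => Ideal.Quotient.eq_zero_iff_mem.mpr hr).toLinearMap
  have hp₂ : ∀ x, p₂ x = 0 → x = 0 := fun x hx => by
    obtain ⟨r, rfl⟩ := Ideal.Quotient.mk_surjective x
    exact Ideal.Quotient.eq_zero_iff_mem.mpr (show algebraMap R R' r ∈ J from Ideal.Quotient.eq_zero_iff_mem.mp hx)
  refine CAlgBasics.rTensor_injective_aux A p₁ p₂
    (rTensor_injective_of_killed (I ⊔ a) (isTorsionBySet_sub (isTorsionBySet_quot _) _) (isTorsionBySet_quot _) _
      (A.map p₁).injective_subtype) ?_ (fun x _ h => hp₂ x h)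
  let C := (A ⊓ LinearMap.ker p₁).map p₂
  let B : Submodule R' (R' ⧸ J) := Submodule.span R' (C : Set (R' ⧸ J))
  have hC : ∀ i ∈ I, ∀ c ∈ C, i • c = 0 := by
    rintro i hi _ ⟨x, ⟨-, hx⟩, rfl⟩
    obtain ⟨r, rfl⟩ := Ideal.Quotient.mk_surjective x
    have hr : r ∈ I ⊔ a := Ideal.Quotient.eq_zero_iff_mem.mp (hx : Ideal.Quotient.mk (I ⊔ a) r = 0)
    obtain ⟨u, hu, v, hv, rfl⟩ := Submodule.mem_sup.mp hr
    rw [← map_smul, show i • Ideal.Quotient.mk a (u + v) = Ideal.Quotient.mk a (i * u + i * v) by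
      rw [← Ideal.Quotient.mkₐ_eq_mk R, ← map_smul, smul_eq_mul, mul_add]]
    show Ideal.Quotient.mk J (algebraMap R R' (i * u + i * v)) = 0
    rw [Ideal.Quotient.eq_zero_iff_mem, map_add]
    refine J.add_mem (Ideal.mem_map_of_mem _ (pow_two I ▸ Ideal.mul_mem_mul hi hu)) ?_
    exact a.mul_mem_left i hv
  have hB : Module.IsTorsionBySet R (B.restrictScalars R) I := fun x i => Subtype.ext (by
    show (i : R) • x.1 = 0
    have hx : x.1 ∈ B := x.2
    generalize x.1 = y at hx ⊢
    induction hx using Submodule.span_induction with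
    | mem y hy => exact hC i.1 i.2 y hy
    | zero => exact smul_zero _
    | add y z _ _ hy hz => rw [smul_add, hy, hz, add_zero]
    | smul c y _ hy => rw [smul_comm, hy, smul_zero])
  have hle : C ≤ B.restrictScalars R := fun c hc => Submodule.subset_span hc
  have h1 := rTensor_injective_of_killed (M := M) I (fun x i => Subtype.ext (hC i.1 i.2 x.1 x.2)) hB
    (Submodule.inclusion hle) (Submodule.inclusion_injective hle)
  have h2 : Function.Injective ((B.subtype.restrictScalars R).rTensor M) :=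
    CAlgBasics.rTensor_injective_of_flat_baseChange R' M B.subtype B.injective_subtype
  show Function.Injective (C.subtype.rTensor M)
  rw [show C.subtype = (B.subtype.restrictScalars R) ∘ₗ Submodule.inclusion hle from rfl, LinearMap.rTensor_comp]
  exact h2.comp h1

theorem flat_of_flat_mod_nilpotent (R' : Type u) [CommRing R'] [Algebra R R'] (hinj : Function.Injective (algebraMap R R'))
    (I : Ideal R) (hI : IsNilpotent I) [Module.Flat (R ⧸ I) ((R ⧸ I) ⊗[R] M)] [Module.Flat R' (R' ⊗[R] M)] :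
    Module.Flat R M := by
  let J : ℕ → Ideal R := fun k => ((I ^ (2 ^ k)).map (algebraMap R R')).comap (algebraMap R R')
  have hJ : ∀ k, Module.Flat (R ⧸ J k) ((R ⧸ J k) ⊗[R] M) := by
    intro k
    induction k with
    | zero => exact flat_mod_mono (I := I) (by simp only [J, pow_zero, pow_one]; exact Ideal.le_comap_map)
    | succ k ih =>
      haveI := ih
      haveI := flat_mod_comap_sq (M := M) R' (J k)
      refine flat_mod_mono (I := ((J k ^ 2).map (algebraMap R R')).comap (algebraMap R R')) (Ideal.comap_mono ?_)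
      rw [Ideal.map_pow, pow_succ 2 k, pow_mul, Ideal.map_pow]
      exact Ideal.pow_right_mono Ideal.map_comap_le 2
  obtain ⟨n, hn⟩ := hI
  have hbot : J n = ⊥ := by
    have : I ^ (2 ^ n) = ⊥ := le_bot_iff.mp ((Ideal.pow_le_pow_right Nat.lt_two_pow_self.le).trans hn.le)
    simp only [J, this, Ideal.map_bot, ← RingHom.ker_eq_comap_bot]
    exact (RingHom.injective_iff_ker_eq_bot _).mp hinj
  haveI : Module.Flat (R ⧸ (⊥ : Ideal R)) ((R ⧸ (⊥ : Ideal R)) ⊗[R] M) := hbot ▸ hJ n
  refine Module.Flat.iff_rTensor_injective'.mpr fun A => ?_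
  have h : Module.IsTorsionBySet R R ((⊥ : Ideal R) : Set R) := fun x a => by
    rw [show (a : R) = 0 from a.2, zero_smul]
  exact rTensor_injective_of_killed ⊥ (isTorsionBySet_sub h A) h A.subtype A.injective_subtype

end Groth.Agent.FlatDevLib
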